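import Cfsg.Agent.Lib.TC.D.SuzG24.Tab
import Cfsg.Agent.Lib.TC.D.SuzG24.C0
import Cfsg.Agent.Lib.TC.D.SuzG24.C1
import Cfsg.Agent.Lib.TC.D.SuzG24.P0
import Cfsg.Agent.Lib.TC.D.SuzG24.P1

namespace Cfsg.Agent.Lib.TC.D.SuzG24.Ok

open Cfsg.Agent.Lib.TC.Core Cfsg.Agent.Lib.TC.Enc Cfsg.Agent.Lib.TC.Pres Cfsg.Agent.Lib.TC.Perm Cfsg.Agent.Lib.TC.Main

set_option maxRecDepth 100000

open Cfsg.Agent.Lib.TC.D.SuzG24.Tab Cfsg.Agent.Lib.TC.G.Suz

theorem allC0 : cert.chkRange 0 5774 = true := Cfsg.Agent.Lib.TC.D.SuzG24.C0.ok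
theorem allC1 : cert.chkRange 0 8917 = true := Cert.chkRange_join (lo := 0) (a := 5774) (b := 3143) _ allC0 Cfsg.Agent.Lib.TC.D.SuzG24.C1.ok
theorem allP0 : pt.chkRange rels 0 899 = true := Cfsg.Agent.Lib.TC.D.SuzG24.P0.ok
theorem allP1 : pt.chkRange rels 0 1782 = true := PT.chkRange_join (lo := 0) (a := 899) (b := 883) _ allP0 Cfsg.Agent.Lib.TC.D.SuzG24.P1.ok

theorem hFinal : cert.chkFinal 0 8917 = true := by decide +kernel

theorem h0 : cert.eLvl (cert.par (cert.find cert.MAX cert.D 0)) = cert.MAX := by decide +kernel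

theorem hcount : cert.countRoots cert.N = pt.n := by
  rw [countRoots_eq_acc]
  decide +kernel

theorem hgood : pt.Good rels where
  hpos := by decide
  hinv := by decide +kernel
  hrels := by decide +kernel
  hchk := allP1

theorem hchecked : Checked cert where
  hN := by decide
  hC := allC1
  hF := hFinal
  h0 := h0

theorem hsubs : subW.map K.word = subs := by decide +kernel

theorem ok : Ok K Rel cert pt rels subs witT.get where
  hK := valid
  hCk := by decide
  hPk := by decide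
  hPinv := fun _ => rfl
  hR := hR
  hrels := hrels
  hG := hgood
  hsubk := by decide +kernel
  hsub0 := by decide +kernel
  h1 := by decide +kernel
  h2 := by decide +kernel
  hC := hchecked
  hcount := hcount

end Cfsg.Agent.Lib.TC.D.SuzG24.Ok
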