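import Cfsg.Agent.Lib.TC.D.SuzG24.Ok
import Cfsg.Agent.Lib.TC.D.SuzG24.OrbT

namespace Cfsg.Agent.Lib.TC.D.SuzG24.Orb

open Cfsg.Agent.Lib.TC.Core Cfsg.Agent.Lib.TC.Enc Cfsg.Agent.Lib.TC.Pres Cfsg.Agent.Lib.TC.Perm Cfsg.Agent.Lib.TC.Main

set_option maxRecDepth 100000

open Cfsg.Agent.Lib.TC.D.SuzG24.Tab Cfsg.Agent.Lib.TC.G.Suz Cfsg.Agent.Lib.TC.D.SuzG24.Ok

/-- The label of a point. -/
noncomputable def lab : Nat → Nat := cellF 6 63 21 2097151 0 3 OrbT.tree.get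
/-- The parent of a point. -/
noncomputable def oP : Nat → Nat := cellF 6 63 21 2097151 2 2047 OrbT.tree.get
/-- The word of a point. -/
noncomputable def oW : Nat → Nat := cellF 6 63 21 2097151 13 7 OrbT.tree.get
/-- The depth of a point. -/
noncomputable def oD : Nat → Nat := cellF 6 63 21 2097151 16 31 OrbT.tree.get
/-- The representatives of labels. -/
def repr (l : Nat) : Nat := [0,1,47].getD l 0

theorem hlab : pt.orbRange subs lab oP oW oD repr 0 1782 = true := by decide +kernel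

theorem spec : ∃ ev : (PresentedGroup Rel ⧸ subOf K Rel subs) → Fin pt.n, Function.Bijective ev ∧
      ∀ r : Fin pt.n, repr (lab r.1) = r.1 → ∃ q, ev q = r ∧
        ev '' (MulAction.orbit (subOf K Rel subs) q) = {i : Fin pt.n | lab i.1 = lab r.1} ∧
        (MulAction.orbit (subOf K Rel subs) q).ncard = {i : Fin pt.n | lab i.1 = lab r.1}.ncard :=
  haveI := ok.npos
  ok.orbit_spec lab oP oW oD repr hlab

theorem spec2 : ∃ ev : (PresentedGroup Rel ⧸ subOf K Rel subs) → Fin pt.n,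
    ∀ t r m, r < 1782 → repr t = r → lab r = t → countAcc lab t 0 1782 0 = m →
      ∃ q, (ev q).1 = r ∧ ev '' (MulAction.orbit (subOf K Rel subs) q) = {i : Fin pt.n | lab i.1 = t} ∧
        (MulAction.orbit (subOf K Rel subs) q).ncard = m := by
  obtain ⟨ev, _, hs⟩ := spec
  refine ⟨ev, fun t r m hr h1 h2 h3 => ?_⟩
  obtain ⟨q, h4, h5, h⟩ := hs ⟨r, hr⟩ (by simp only [h2, h1])
  refine ⟨q, by rw [h4], ?_, ?_⟩
  · rw [h5]
    simp only [h2]
  · rw [h]
    simp only [h2]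
    rw [← h3]
    exact ncard_label lab 1782 t

/-- Two different orbits. -/
theorem orbit_ne (ev : (PresentedGroup Rel ⧸ subOf K Rel subs) → Fin pt.n) {t₁ t₂ r₁ : Nat}
    {q₁ q₂ : PresentedGroup Rel ⧸ subOf K Rel subs}
    (h1 : (ev q₁).1 = r₁)
    (h2 : ev '' (MulAction.orbit (subOf K Rel subs) q₁) = {i : Fin pt.n | lab i.1 = t₁})
    (h3 : ev '' (MulAction.orbit (subOf K Rel subs) q₂) = {i : Fin pt.n | lab i.1 = t₂})
    (ht : t₁ ≠ t₂) :
    MulAction.orbit (subOf K Rel subs) q₁ ≠ MulAction.orbit (subOf K Rel subs) q₂ := by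
  intro h
  have h4 : ev q₁ ∈ ev '' (MulAction.orbit (subOf K Rel subs) q₁) :=
    ⟨q₁, MulAction.mem_orbit_self q₁, rfl⟩
  have h5 := h4
  rw [h2] at h5
  rw [h, h3] at h4
  exact ht (h5.symm.trans h4)

end Cfsg.Agent.Lib.TC.D.SuzG24.Orb
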